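import Groth.Agent.Chev.CommSubgroup
import Groth.Agent.Chev.LinSection
import Groth.Agent.Chev.TorusExt
import Groth.Agent.Chev.TorsionFinite
import Groth.Agent.BGaNotS.GaPts
import Groth.Agent.MTQuot.Diag
import Groth.Agent.MTSplit.Basic
import Groth.Prelude.Def_GmPts

/-!
# Points of infinite order on affine groups in characteristic zero
-/

set_option autoImplicit false
set_option backward.isDefEq.respectTransparency false
set_option backward.isDefEq.respectTransparency.types false
set_option linter.style.haveILetI false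
universe u

open CategoryTheory CategoryTheory.Limits MonoidalCategory CartesianMonoidalCategory MonObj AlgebraicGeometry
open scoped CategoryTheory.Obj
open Groth.Agent.BGaNotS (gaPt gaFn_gaPt gaPt_ext gaFn_mul gaFn_one)

noncomputable section

namespace Groth.Agent.FgDense

variable {k : Type u} [Field k] [CharZero k]

/-- The point `2` of the multiplicative group has infinite order, as does the point `1` of the additive group. -/
theorem natCast_ne_zero {n : ℕ} (hn : n ≠ 0) :
    (n : Γ((𝟙_ (Over (Spec (CommRingCat.of k)))).left, ⊤)) ≠ 0 := fun h => by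
  let e : Γ(Spec (CommRingCat.of k), ⊤) →+* k := (Scheme.ΓSpecIso (CommRingCat.of k)).hom.hom
  have h2 : e (n : Γ(Spec (CommRingCat.of k), ⊤)) = e 0 := congrArg e h
  rw [map_natCast, map_zero] at h2
  exact hn (Nat.cast_eq_zero.1 h2)

theorem ga_infinite {n : ℕ} (hn : n ≠ 0) :
    (gaPt (1 : Γ((𝟙_ (Over (Spec (CommRingCat.of k)))).left, ⊤)) : _ ⟶ Red.Ga (Spec (CommRingCat.of k))) ^ n ≠ 1 := by
  intro h
  let x : 𝟙_ (Over (Spec (CommRingCat.of k))) ⟶ Red.Ga (Spec (CommRingCat.of k)) := gaPt 1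
  have key : ∀ m : ℕ, Red.gaFn (x ^ m) = (m : Γ((𝟙_ (Over (Spec (CommRingCat.of k)))).left, ⊤)) := by
    intro m
    induction m with
    | zero => rw [pow_zero, Nat.cast_zero]; exact gaFn_one
    | succ m ih => rw [pow_succ, gaFn_mul, ih, gaFn_gaPt, Nat.cast_succ]
  have := key n
  rw [show x ^ n = 1 from h, gaFn_one] at this
  exact natCast_ne_zero hn this.symm

/-- The unit `2`. -/
def two : (Γ((𝟙_ (Over (Spec (CommRingCat.of k)))).left, ⊤))ˣ :=
  Units.map (Scheme.ΓSpecIso (CommRingCat.of k)).inv.hom.toMonoidHom (Units.mk0 (2 : k) two_ne_zero)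

theorem gm_infinite {n : ℕ} (hn : n ≠ 0) :
    (GmPts.ptOfUnit (two (k := k)) : _ ⟶ Red.Gm (Spec (CommRingCat.of k))) ^ n ≠ 1 := by
  intro h
  let e : Γ(Spec (CommRingCat.of k), ⊤) →+* k := (Scheme.ΓSpecIso (CommRingCat.of k)).hom.hom
  have hp : ∀ m : ℕ, GmPts.unitOfPt ((GmPts.ptOfUnit (two (k := k)) : _ ⟶ Red.Gm (Spec (CommRingCat.of k))) ^ m) =
      two ^ m := by
    intro m
    induction m with
    | zero => rw [pow_zero, pow_zero, GmPts.unitOfPt_one]
    | succ m ih => rw [pow_succ, pow_succ, GmPts.unitOfPt_mul, ih, GmPts.unitOfPt_ptOfUnit]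
  have h1 := hp n
  rw [h, GmPts.unitOfPt_one] at h1
  have h2 : (1 : k) = 2 ^ n := by
    have h3 := congrArg (fun v : (Γ(Spec (CommRingCat.of k), ⊤))ˣ => e (v : Γ(Spec (CommRingCat.of k), ⊤))) h1
    rw [Units.val_one, Units.val_pow_eq_pow_val, map_one, map_pow] at h3
    exact h3.trans (congrArg (· ^ n) (congr($((Scheme.ΓSpecIso (CommRingCat.of k)).inv_hom_id) (2 : k))))
  have h3 : ((1 : ℕ) : k) = ((2 ^ n : ℕ) : k) := by exact_mod_cast h2
  exact absurd (Nat.cast_injective h3) (Nat.one_lt_two_pow hn).ne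

variable [IsAlgClosed k]

/-- An affine group of positive dimension has a rational point of infinite order. -/
theorem exists_infinite_point (Q : Over (Spec (CommRingCat.of k))) [GrpObj Q] [Smooth Q.hom] [IsAffine Q.left]
    [ConnectedSpace Q.left] (h0 : 0 < topologicalKrullDim Q.left) :
    ∃ x : 𝟙_ (Over (Spec (CommRingCat.of k))) ⟶ Q, ∀ n : ℕ, n ≠ 0 → x ^ n ≠ 1 := by
  haveI : IsAffineHom Q.hom := isAffineHom_of_isAffine Q.hom
  haveI : QuasiCompact Q.hom := inferInstance
  obtain ⟨M, hM, i, him, hic, hMs, hMc, hMm, hM0⟩ := Chev.exists_comm_subgroup Q h0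
  haveI := him; haveI := hic; haveI := hMs; haveI := hMc; haveI := hMm
  haveI : Mono i := GrpField.SchImg.mono_of_isClosedImmersion i
  haveI : IsAffine M.left := isAffine_of_isAffineHom i.left
  suffices ∃ x : 𝟙_ (Over (Spec (CommRingCat.of k))) ⟶ M, ∀ n : ℕ, n ≠ 0 → x ^ n ≠ 1 by
    obtain ⟨x, hx⟩ := this
    exact ⟨x ≫ i, fun n hn hc => hx n hn
      ((cancel_mono i).1 (by rw [MonObj.pow_comp, hc, MonObj.one_comp]))⟩
  by_cases hU : Red.HasNoSubtorus k M
  · have hne : ¬ IsIso M.hom := fun hiso => by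
      haveI := hiso
      let h := Scheme.homeoOfIso (asIso M.hom)
      have hd : topologicalKrullDim M.left = topologicalKrullDim (Spec (CommRingCat.of k)) :=
        h.isHomeomorph.topologicalKrullDim_eq
      rw [hd] at hM0
      have h1 : topologicalKrullDim (Spec (CommRingCat.of k)) = 0 := Chev.dim_unit (k := k)
      rw [h1] at hM0
      exact lt_irrefl _ hM0
    obtain ⟨g, hgm, hgc⟩ := Chev.LinSection.exists_ga_sub M hU hne
    haveI := hgm; haveI := hgc
    haveI : Mono g := GrpField.SchImg.mono_of_isClosedImmersion g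
    exact ⟨gaPt 1 ≫ g, fun n hn hc => ga_infinite hn
      ((cancel_mono g).1 (by rw [MonObj.pow_comp, hc, MonObj.one_comp]))⟩
  · simp only [Red.HasNoSubtorus, not_forall] at hU
    obtain ⟨T, hT, j, hjm, hjmono, htor, hne⟩ := hU
    haveI := hjm; haveI := hjmono
    obtain ⟨r, ⟨e⟩⟩ := Chev.exists_split_algClosed htor
    let eT : T ≅ Red.DS (Spec (CommRingCat.of k)) (Fin r → ℤ) := (Grp.forget _).mapIso e
    haveI hem : IsMonHom eT.hom := e.hom.hom.isMonHom_hom
    by_cases hr : r = 0
    · exfalso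
      subst hr
      apply hne
      have h1 : 𝟙 (Red.DS (Spec (CommRingCat.of k)) (Fin 0 → ℤ)) = 1 := by
        rw [← MTQuot.DSmap_id, show AddMonoidHom.id (Fin 0 → ℤ) = 0 from AddMonoidHom.ext fun m => Subsingleton.elim _ _]
        exact MTSplit.DSmap_zero
      have hT1 : 𝟙 T = 1 := by
        rw [← cancel_mono eT.hom, MonObj.one_comp, Category.id_comp]
        have := congrArg (fun t => eT.hom ≫ t) h1
        simpa only [Category.comp_id, MonObj.comp_one] using this
      refine ⟨η[T].left, ?_, Over.w η[T]⟩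
      have h2 : T.hom ≫ η[T].left = 𝟙 T.left := by
        rw [Hom.one_def] at hT1
        rw [← Over.toUnit_left (R := T), ← Over.comp_left, ← hT1]
        rfl
      exact h2
    · let i₀ : Fin r := ⟨0, Nat.pos_of_ne_zero hr⟩
      let φ : (Fin r → ℤ) →+ ℤ := Pi.evalAddMonoidHom (fun _ => ℤ) i₀
      let ψ : ℤ →+ (Fin r → ℤ) := AddMonoidHom.single (fun _ => ℤ) i₀
      haveI := MTQuot.isMonHom_DSmap (S := Spec (CommRingCat.of k)) φ
      haveI := MTQuot.isMonHom_DSmap (S := Spec (CommRingCat.of k)) ψ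
      have hφψ : φ.comp ψ = AddMonoidHom.id ℤ := by
        apply AddMonoidHom.ext_int
        simp [φ, ψ]
      refine ⟨((GmPts.ptOfUnit (two (k := k)) ≫ Red.DSmap _ φ) ≫ eT.inv) ≫ j, fun n hn hc => gm_infinite (k := k) hn ?_⟩
      have h1 : ((GmPts.ptOfUnit (two (k := k)) ≫ Red.DSmap _ φ) ^ n) ≫ eT.inv ≫ j = 1 := by
        rw [← hc, MonObj.pow_comp, Category.assoc, Category.assoc, Category.assoc]
      have h2 : (GmPts.ptOfUnit (two (k := k)) ≫ Red.DSmap _ φ) ^ n = 1 :=
        (cancel_mono (eT.inv ≫ j)).1 (h1.trans (MonObj.one_comp _).symm)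
      have h3 := congrArg (fun t => t ≫ Red.DSmap _ ψ) h2
      simp only [MonObj.pow_comp, MonObj.one_comp, Category.assoc, MTQuot.DSmap_comp, hφψ, MTQuot.DSmap_id,
        Category.comp_id] at h3
      exact h3

end Groth.Agent.FgDense
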