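import Groth.Agent.FgDense.Infinite
import Groth.Agent.OneMotIso.Torsion
import Groth.Agent.Chev.LargestSA
import Groth.Agent.GrpField.RatClosure

/-!
# Finitely generated dense subgroups of rational points
-/

set_option autoImplicit false
set_option backward.isDefEq.respectTransparency false
set_option backward.isDefEq.respectTransparency.types false
set_option linter.style.haveILetI false
set_option maxHeartbeats 1000000
universe u

open CategoryTheory CategoryTheory.Limits MonoidalCategory CartesianMonoidalCategory MonObj AlgebraicGeometry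
open TopologicalSpace
open scoped CategoryTheory.Obj
open Groth.Agent.GrpField.RatClosure (pt)
open Groth.Agent.OneMotIso (exists_point pt_inj isClosed_pt isIso_of_points exists_point_lift hom_ext_points)

noncomputable section

namespace Groth.Agent.FgDense

variable {k : Type u} [Field k] [IsAlgClosed k]

/-- The rational points of the ambient space in a closed subscheme are its rational points. -/
theorem exists_pt_of_mem {Y G : Over (Spec (CommRingCat.of k))} [LocallyOfFiniteType G.hom] (j : Y ⟶ G)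
    [IsClosedImmersion j.left] {g : 𝟙_ (Over (Spec (CommRingCat.of k))) ⟶ G} (hg : pt g ∈ Set.range j.left) :
    ∃ y : 𝟙_ (Over (Spec (CommRingCat.of k))) ⟶ Y, y ≫ j = g := by
  haveI : LocallyOfFiniteType Y.hom := by rw [← Over.w j]; infer_instance
  obtain ⟨y₀, hy₀⟩ := hg
  have hc : y₀ ∈ closedPoints Y.left := by
    have h := (isClosed_pt g).preimage j.left.continuous
    rw [show j.left ⁻¹' {pt g} = {y₀} from Set.ext fun y =>
      ⟨fun hy => j.left.isClosedEmbedding.injective (hy.trans hy₀.symm), fun hy => by rw [hy]; exact hy₀⟩] at h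
    exact h
  obtain ⟨y, rfl⟩ := exists_point hc
  exact ⟨y, pt_inj hy₀⟩

/-- A map from a reduced scheme sending rational points into a closed subscheme factors through it. -/
theorem exists_factor {X Y G : Over (Spec (CommRingCat.of k))} [IsReduced X.left] [LocallyOfFiniteType X.hom]
    [LocallyOfFiniteType G.hom] (a : X ⟶ G) (j : Y ⟶ G) [IsClosedImmersion j.left]
    (h : ∀ x : 𝟙_ (Over (Spec (CommRingCat.of k))) ⟶ X, pt (x ≫ a) ∈ Set.range j.left) :
    ∃ l : X ⟶ Y, l ≫ j = a := by
  let P : Over (Spec (CommRingCat.of k)) := Over.mk (pullback.fst a.left j.left ≫ X.hom)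
  let p : P ⟶ X := Over.homMk (pullback.fst a.left j.left) rfl
  let q : P ⟶ Y := Over.homMk (pullback.snd a.left j.left) (by
    show pullback.snd a.left j.left ≫ Y.hom = pullback.fst a.left j.left ≫ X.hom
    rw [← Over.w j, ← Over.w a, pullback.condition_assoc])
  have hpq : p ≫ a = q ≫ j := Over.OverMorphism.ext pullback.condition
  haveI : IsClosedImmersion p.left := inferInstanceAs (IsClosedImmersion (pullback.fst a.left j.left))
  haveI : IsIso p := isIso_of_points p fun x => by
    obtain ⟨y, hy⟩ := exists_pt_of_mem j (h x)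
    have hy' : x.left ≫ a.left = y.left ≫ j.left := by rw [← Over.comp_left, ← Over.comp_left, hy]
    refine ⟨Over.homMk (pullback.lift x.left y.left hy') ?_, Over.OverMorphism.ext (pullback.lift_fst _ _ _)⟩
    show pullback.lift x.left y.left hy' ≫ pullback.fst a.left j.left ≫ X.hom = _
    rw [pullback.lift_fst_assoc, Over.w x]
  exact ⟨inv p ≫ q, by rw [Category.assoc, ← hpq, IsIso.inv_hom_id_assoc]⟩

variable {G : Over (Spec (CommRingCat.of k))} [GrpObj G]

/-- The points whose image lies in the closure of a subgroup. -/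
theorem mem_range_of_mem {H : Over (Spec (CommRingCat.of k))} (i : H ⟶ G)
    {Φ : Subgroup (𝟙_ (Over (Spec (CommRingCat.of k))) ⟶ G)} (hr : Set.range i.left = closure (pt '' (Φ : Set _)))
    {g : 𝟙_ (Over (Spec (CommRingCat.of k))) ⟶ G} (hg : g ∈ Φ) : pt g ∈ Set.range i.left :=
  hr ▸ subset_closure ⟨g, hg, rfl⟩

/-- Connected closure data of a finitely generated subgroup. -/
structure ClosData (G : Over (Spec (CommRingCat.of k))) [GrpObj G] where
  Φ : Subgroup (𝟙_ (Over (Spec (CommRingCat.of k))) ⟶ G)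
  fg : Φ.FG
  H : Over (Spec (CommRingCat.of k))
  [grpH : GrpObj H]
  i : H ⟶ G
  [monHom : IsMonHom i]
  [closed : IsClosedImmersion i.left]
  [smoothH : Smooth H.hom]
  range_eq : Set.range i.left = closure (pt '' (Φ : Set _))
  C : Over (Spec (CommRingCat.of k))
  [grpC : GrpObj C]
  c : C ⟶ H
  [monHom' : IsMonHom c]
  [closed' : IsClosedImmersion c.left]
  [smoothC : Smooth C.hom]
  [conn : ConnectedSpace C.left]
  range_c : Set.range c.left = connectedComponent (η[H].left (IsLocalRing.closedPoint k))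

attribute [instance] ClosData.grpH ClosData.monHom ClosData.closed ClosData.smoothH ClosData.grpC ClosData.monHom'
  ClosData.closed' ClosData.smoothC ClosData.conn

variable [LocallyOfFiniteType G.hom]

/-- Every finitely generated subgroup has closure data. -/
theorem exists_closData (Φ : Subgroup (𝟙_ (Over (Spec (CommRingCat.of k))) ⟶ G)) (hΦ : Φ.FG) :
    ∃ D : ClosData G, D.Φ = Φ := by
  obtain ⟨H, hH, i, him, hic, hHs, hr⟩ := GrpField.RatClosure.exists_subgroup_closure Φ
  haveI := him; haveI := hic; haveI := hHs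
  haveI : IsLocallyNoetherian H.left := LocallyOfFiniteType.isLocallyNoetherian H.hom
  obtain ⟨C, hC, c, hcm, hcc, hcf, hcr, hgi, hcomp, -⟩ := GrpComp.exists_identity_subgroup H
  haveI := hcm; haveI := hcc; haveI := hcf; haveI := hgi
  haveI : LocallyOfFinitePresentation c.left := inferInstance
  haveI : IsOpenImmersion c.left := IsOpenImmersion.of_flat_of_mono c.left
  haveI : Smooth C.hom := by rw [← Over.w c]; infer_instance
  haveI : IrreducibleSpace C.left := GeometricallyIrreducible.irreducibleSpace_of_subsingleton C.hom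
  exact ⟨{ Φ := Φ, fg := hΦ, H := H, i := i, range_eq := hr, C := C, c := c, conn := inferInstance, range_c := hcr }, rfl⟩

variable [IsAffine G.left]

omit [IsAlgClosed k] [LocallyOfFiniteType G.hom] in
theorem ClosData.qc (D : ClosData G) : IsAffine D.C.left ∧ IsAffine D.H.left :=
  haveI : IsAffine D.H.left := isAffine_of_isAffineHom D.i.left
  ⟨isAffine_of_isAffineHom D.c.left, inferInstance⟩

variable [CharZero k]

/-- A connected affine group in characteristic zero has a finitely generated dense subgroup of rational points. -/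
theorem exists_fg_dense [Smooth G.hom] [ConnectedSpace G.left] :
    ∃ Φ : Subgroup (𝟙_ (Over (Spec (CommRingCat.of k))) ⟶ G), Φ.FG ∧ Dense (pt '' (Φ : Set (𝟙_ (Over (Spec (CommRingCat.of k))) ⟶ G))) := by
  classical
  haveI : IsAffineHom G.hom := isAffineHom_of_isAffine G.hom
  haveI : QuasiCompact G.hom := inferInstance
  haveI : IsSeparated G.hom := inferInstance
  obtain ⟨N, hN⟩ := Chev.exists_natDim' G
  let s : Set ℕ := {d | ∃ D : ClosData G, topologicalKrullDim D.C.left = d}
  have hle : ∀ D : ClosData G, topologicalKrullDim D.C.left ≤ topologicalKrullDim G.left := fun D =>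
    Topology.IsInducing.topologicalKrullDim_le (f := (D.c ≫ D.i).left) (by
      haveI : IsClosedImmersion (D.c ≫ D.i).left := by rw [Over.comp_left]; infer_instance
      exact (D.c ≫ D.i).left.isClosedEmbedding.isInducing)
  have hb : BddAbove s := ⟨N, fun d ⟨D, hD⟩ => by
    have h1 := hle D
    rw [hD, hN] at h1
    exact_mod_cast h1⟩
  have hne : s.Nonempty := by
    obtain ⟨D, -⟩ := exists_closData (G := G) ⊥ ⟨∅, by simp⟩
    obtain ⟨d, hd⟩ := Chev.exists_natDim' D.C
    exact ⟨d, D, hd⟩
  obtain ⟨D, hD⟩ := Nat.sSup_mem hne hb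
  haveI hDC := D.qc.1
  haveI : QuasiCompact D.C.hom := by rw [← Over.w D.c, ← Over.w D.i]; infer_instance
  haveI : IsReduced D.C.left := Chev.isReduced_of_smooth' D.C
  let C := D.C
  let c : C ⟶ G := D.c ≫ D.i
  haveI : IsClosedImmersion c.left := by simp only [c, Over.comp_left]; infer_instance
  haveI : Mono c := GrpField.SchImg.mono_of_isClosedImmersion c
  -- conjugation and powers
  have key : ∀ g : 𝟙_ (Over (Spec (CommRingCat.of k))) ⟶ G,
      (∀ a : 𝟙_ (Over (Spec (CommRingCat.of k))) ⟶ C, ∃ b, b ≫ c = g * (a ≫ c) * g⁻¹) ∧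
      ∃ n : ℕ, n ≠ 0 ∧ ∃ b, b ≫ c = g ^ n := by
    intro g
    obtain ⟨D', hΦ'⟩ := exists_closData (D.Φ ⊔ Subgroup.zpowers g)
      (D.fg.sup ⟨{g}, by rw [Finset.coe_singleton, Subgroup.zpowers_eq_closure]⟩)
    haveI := D'.qc.1
    haveI := D'.qc.2
    haveI : QuasiCompact D'.C.hom := by rw [← Over.w D'.c, ← Over.w D'.i]; infer_instance
    haveI : LocallyOfFiniteType D'.H.hom := inferInstance
    haveI : IsLocallyNoetherian D'.H.left := LocallyOfFiniteType.isLocallyNoetherian D'.H.hom
    haveI : Mono D'.i := GrpField.SchImg.mono_of_isClosedImmersion D'.i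
    haveI : Mono D'.c := GrpField.SchImg.mono_of_isClosedImmersion D'.c
    have hsub : Set.range D.i.left ⊆ Set.range D'.i.left := by
      rw [D.range_eq, D'.range_eq, hΦ']
      exact closure_mono (Set.image_mono (fun x hx => Subgroup.mem_sup_left hx))
    obtain ⟨l, hl⟩ := exists_factor c D'.i fun x => hsub ⟨pt (x ≫ D.c), rfl⟩
    haveI : IsMonHom l := MTSplit.isMonHom_of_comp_mono l D'.i c hl
    have hl1 : η[C] ≫ l = η[D'.H] := IsMonHom.one_hom l
    have hlr : Set.range l.left ⊆ connectedComponent (η[D'.H].left (IsLocalRing.closedPoint k)) :=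
      (isPreconnected_range l.left.continuous).subset_connectedComponent
        ⟨η[C].left (IsLocalRing.closedPoint k), congrArg pt hl1⟩
    obtain ⟨m, hm⟩ := exists_factor l D'.c fun x => by
      rw [D'.range_c]
      exact hlr ⟨pt x, rfl⟩
    haveI : IsMonHom m := MTSplit.isMonHom_of_comp_mono m D'.c l hm
    haveI : IsClosedImmersion l.left := by
      haveI : IsClosedImmersion (l.left ≫ D'.i.left) := by rw [← Over.comp_left, hl]; infer_instance
      exact IsClosedImmersion.of_comp_isClosedImmersion l.left D'.i.left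
    haveI : IsClosedImmersion m.left := by
      haveI : IsClosedImmersion (m.left ≫ D'.c.left) := by rw [← Over.comp_left, hm]; infer_instance
      exact IsClosedImmersion.of_comp_isClosedImmersion m.left D'.c.left
    haveI : IsIso m := Chev.isIso_of_dim_eq m (le_antisymm
      (Topology.IsInducing.topologicalKrullDim_le m.left.isClosedEmbedding.isInducing) (by
        obtain ⟨d', hd'⟩ := Chev.exists_natDim' D'.C
        rw [hD, hd']
        exact_mod_cast le_csSup hb ⟨D', hd'⟩))
    have hmc : m ≫ D'.c ≫ D'.i = c := by rw [← Category.assoc, hm, hl]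
    have hback : ∀ y : 𝟙_ (Over (Spec (CommRingCat.of k))) ⟶ D'.H,
        pt y ∈ connectedComponent (η[D'.H].left (IsLocalRing.closedPoint k)) → ∃ b, b ≫ c = y ≫ D'.i := by
      intro y hy
      obtain ⟨b, hb'⟩ := exists_pt_of_mem D'.c (D'.range_c ▸ hy)
      exact ⟨b ≫ inv m, by rw [← hmc, Category.assoc, IsIso.inv_hom_id_assoc, ← Category.assoc, hb']⟩
    obtain ⟨x, hx⟩ := exists_pt_of_mem D'.i
      (mem_range_of_mem D'.i D'.range_eq (g := g) (hΦ' ▸ Subgroup.mem_sup_right (Subgroup.mem_zpowers g)))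
    refine ⟨fun a => ?_, ?_⟩
    · let φ : D'.C ⟶ D'.H := (toUnit D'.C ≫ x) * D'.c * (toUnit D'.C ≫ x)⁻¹
      have hφ : ∀ z : 𝟙_ (Over (Spec (CommRingCat.of k))) ⟶ D'.C, z ≫ φ = x * (z ≫ D'.c) * x⁻¹ := fun z => by
        simp only [φ, MonObj.comp_mul, GrpObj.comp_inv, comp_toUnit_assoc, toUnit_unit, Category.id_comp]
      have hin : pt ((a ≫ m) ≫ φ) ∈ connectedComponent (η[D'.H].left (IsLocalRing.closedPoint k)) :=
        (isPreconnected_range φ.left.continuous).subset_connectedComponent
          ⟨pt (1 : _ ⟶ D'.C), congrArg pt (show (1 : _ ⟶ D'.C) ≫ φ = η[D'.H] by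
            rw [hφ, MonObj.one_comp, _root_.mul_one, mul_inv_cancel, Hom.one_def, toUnit_unit, Category.id_comp])⟩
          ⟨pt (a ≫ m), rfl⟩
      obtain ⟨b, hb'⟩ := hback _ hin
      refine ⟨b, hb'.trans ?_⟩
      rw [hφ, MonObj.mul_comp, MonObj.mul_comp, GrpObj.inv_comp, hx, Category.assoc, Category.assoc, hmc]
    · haveI : CompactSpace D'.H.left := inferInstance
      haveI : IsNoetherian D'.H.left := { }
      haveI : Finite (irreducibleComponents D'.H.left) :=
        NoetherianSpace.finite_irreducibleComponents.to_subtype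
      obtain ⟨a', b', hne', hab⟩ := Finite.exists_ne_map_eq_of_infinite fun n : ℕ =>
        (⟨irreducibleComponent (pt (x ^ n)), irreducibleComponent_mem_irreducibleComponents _⟩ :
          irreducibleComponents D'.H.left)
      wlog hlt : a' < b' generalizing a' b'
      · exact this b' a' hne'.symm hab.symm (lt_of_le_of_ne (not_lt.1 hlt) hne'.symm)
      have hconn : _root_.IsPreconnected (irreducibleComponent (pt (x ^ a'))) :=
        isIrreducible_irreducibleComponent.isConnected.isPreconnected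
      let τ : D'.H ⟶ D'.H := (toUnit D'.H ≫ (x ^ a')⁻¹) * 𝟙 D'.H
      have hτ : ∀ z : 𝟙_ (Over (Spec (CommRingCat.of k))) ⟶ D'.H, z ≫ τ = (x ^ a')⁻¹ * z := fun z => by
        simp only [τ, MonObj.comp_mul, comp_toUnit_assoc, toUnit_unit, Category.id_comp, Category.comp_id]
      have hmem : pt ((x ^ b') ≫ τ) ∈ connectedComponent (η[D'.H].left (IsLocalRing.closedPoint k)) := by
        refine (hconn.image τ.left τ.left.continuous.continuousOn).subset_connectedComponent ?_
          ⟨pt (x ^ b'), ?_, rfl⟩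
        · refine ⟨pt (x ^ a'), mem_irreducibleComponent, ?_⟩
          show pt ((x ^ a') ≫ τ) = pt η[D'.H]
          rw [hτ, inv_mul_cancel, Hom.one_def, toUnit_unit, Category.id_comp]
        · have h := congrArg Subtype.val hab
          simp only at h
          rw [h]
          exact mem_irreducibleComponent
      rw [hτ, show x ^ b' = x ^ a' * x ^ (b' - a') by rw [← pow_add, Nat.add_sub_cancel' hlt.le],
        inv_mul_cancel_left] at hmem
      obtain ⟨b, hb'⟩ := hback _ hmem
      exact ⟨b' - a', by omega, b, by rw [hb', MonObj.pow_comp, hx]⟩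
  -- normality
  have hn : AlgGrp.IsNormalHom c := by
    haveI : Smooth (G ⊗ C).hom := inferInstanceAs (Smooth (pullback.fst G.hom C.hom ≫ G.hom))
    haveI : IsReduced (G ⊗ C).left := Chev.isReduced_of_smooth' (G ⊗ C)
    let φ : G ⊗ C ⟶ G := fst G C * (snd G C ≫ c) * (fst G C)⁻¹
    obtain ⟨l, hl⟩ := exists_factor φ c fun z => by
      obtain ⟨b, hb'⟩ := (key (z ≫ fst G C)).1 (z ≫ snd G C)
      refine ⟨pt b, ?_⟩
      show pt (b ≫ c) = pt (z ≫ φ)
      rw [hb']
      simp only [φ, MonObj.comp_mul, GrpObj.comp_inv, Category.assoc]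
    intro T g n
    refine ⟨lift g n ≫ l, ?_⟩
    rw [Category.assoc, hl]
    simp only [φ, MonObj.comp_mul, GrpObj.comp_inv, lift_fst, lift_snd_assoc]
  obtain ⟨Q, hQ, q, hqm, hQa, hQl, hqf, hqs, hker⟩ := Takeuchi.exists_affine_quotient G C c hn
  haveI := hqm; haveI := hQa; haveI := hQl; haveI := hqf; haveI := hqs
  haveI : GrpObj (Over.mk Q.hom) := inferInstanceAs (GrpObj Q)
  haveI : Smooth Q.hom := Cartier.smooth_of_charZero Q.hom
  haveI : ConnectedSpace Q.left := q.left.surjective.connectedSpace q.left.continuous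
  have hdim : ¬ 0 < topologicalKrullDim Q.left := fun h0 => by
    obtain ⟨y, hy⟩ := exists_infinite_point Q h0
    obtain ⟨g, rfl⟩ := exists_point_lift q y
    obtain ⟨n, hn0, b, hb'⟩ := (key g).2
    refine hy n hn0 ?_
    rw [← MonObj.pow_comp, ← hb', Category.assoc, hker.w, comp_toUnit_assoc, ← Hom.one_def]
  haveI := Chev.LinSection.isIso_hom_of_dim_zero Q hdim
  have hq1 : q = 1 := by
    apply Over.OverMorphism.ext
    rw [← cancel_mono Q.hom, Over.w, Over.w]
  have hsurj : Set.range c.left = Set.univ := by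
    haveI : IsSplitEpi c := ⟨⟨⟨hker.lift (𝟙 G) (toUnit G) (by rw [hq1, MonObj.comp_one, Hom.one_def]),
      hker.lift_fst _ _ _⟩⟩⟩
    haveI := isIso_of_mono_of_isSplitEpi c
    haveI : IsIso c.left := inferInstanceAs (IsIso ((Over.forget _).map c))
    exact c.left.surjective.range_eq
  refine ⟨D.Φ, D.fg, dense_iff_closure_eq.2 (Set.eq_univ_of_univ_subset ?_)⟩
  rw [← D.range_eq, ← hsurj]
  rintro _ ⟨z, rfl⟩
  exact ⟨D.c.left z, rfl⟩

/-- An affine group of finite type in characteristic zero has a finitely generated dense subgroup of rational points. -/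
theorem exists_fg_dense_general :
    ∃ Φ : Subgroup (𝟙_ (Over (Spec (CommRingCat.of k))) ⟶ G), Φ.FG ∧ Dense (pt '' (Φ : Set (𝟙_ (Over (Spec (CommRingCat.of k))) ⟶ G))) := by
  classical
  haveI : GrpObj (Over.mk G.hom) := inferInstanceAs (GrpObj G)
  haveI : Smooth G.hom := Cartier.smooth_of_charZero G.hom
  haveI : IsAffineHom G.hom := isAffineHom_of_isAffine G.hom
  haveI : IsLocallyNoetherian G.left := LocallyOfFiniteType.isLocallyNoetherian G.hom
  haveI : JacobsonSpace G.left := LocallyOfFiniteType.jacobsonSpace G.hom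
  haveI : IsNoetherian G.left := { }
  obtain ⟨C, hC, c, hcm, hcc, hcf, hcr, hgi, hcomp, -⟩ := GrpComp.exists_identity_subgroup G
  haveI := hcm; haveI := hcc; haveI := hcf; haveI := hgi
  haveI : LocallyOfFinitePresentation c.left := inferInstance
  haveI : IsOpenImmersion c.left := IsOpenImmersion.of_flat_of_mono c.left
  haveI : Smooth C.hom := by rw [← Over.w c]; infer_instance
  haveI : IrreducibleSpace C.left := GeometricallyIrreducible.irreducibleSpace_of_subsingleton C.hom
  haveI : IsAffine C.left := isAffine_of_isAffineHom c.left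
  obtain ⟨Φ₀, hΦ₀, hd₀⟩ := exists_fg_dense (G := C)
  let ψ : (𝟙_ (Over (Spec (CommRingCat.of k))) ⟶ C) →* (𝟙_ (Over (Spec (CommRingCat.of k))) ⟶ G) :=
    MonoidHom.mk' (fun z => z ≫ c) fun a b => MonObj.mul_comp a b c
  haveI : Finite (irreducibleComponents G.left) := NoetherianSpace.finite_irreducibleComponents.to_subtype
  let r : (irreducibleComponents G.left) → (𝟙_ (Over (Spec (CommRingCat.of k))) ⟶ G) := fun Z =>
    if h : ∃ g : 𝟙_ (Over (Spec (CommRingCat.of k))) ⟶ G, pt g ∈ Z.1 then h.choose else 1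
  haveI := Fintype.ofFinite (irreducibleComponents G.left)
  let Φ := Φ₀.map ψ ⊔ Subgroup.closure ((Finset.univ.image r : Finset _) : Set _)
  obtain ⟨S₀, hS₀⟩ := hΦ₀
  have hmap : (Φ₀.map ψ).FG := ⟨S₀.image ψ, by rw [Finset.coe_image, ← MonoidHom.map_closure, hS₀]⟩
  refine ⟨Φ, hmap.sup ⟨_, rfl⟩, dense_iff_closure_eq.2 (Set.eq_univ_of_univ_subset ?_)⟩
  rw [← closure_closedPoints]
  refine closure_minimal (fun x hx => ?_) isClosed_closure
  obtain ⟨g, rfl⟩ := exists_point (X := G) hx
  let Z : irreducibleComponents G.left :=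
    ⟨irreducibleComponent (pt g), irreducibleComponent_mem_irreducibleComponents _⟩
  have hZ : ∃ g' : 𝟙_ (Over (Spec (CommRingCat.of k))) ⟶ G, pt g' ∈ Z.1 := ⟨g, mem_irreducibleComponent⟩
  have hrZ : pt (r Z) ∈ irreducibleComponent (pt g) := by simpa [r, hZ] using hZ.choose_spec
  let τ : G ⟶ G := (toUnit G ≫ (r Z)⁻¹) * 𝟙 G
  let σ : G ⟶ G := (toUnit G ≫ r Z) * 𝟙 G
  have hτ : ∀ z : 𝟙_ (Over (Spec (CommRingCat.of k))) ⟶ G, z ≫ τ = (r Z)⁻¹ * z := fun z => by
    simp only [τ, MonObj.comp_mul, comp_toUnit_assoc, toUnit_unit, Category.id_comp, Category.comp_id]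
  have hσ : ∀ z : 𝟙_ (Over (Spec (CommRingCat.of k))) ⟶ G, z ≫ σ = r Z * z := fun z => by
    simp only [σ, MonObj.comp_mul, comp_toUnit_assoc, toUnit_unit, Category.id_comp, Category.comp_id]
  have hmem : pt (g ≫ τ) ∈ Set.range c.left := by
    rw [hcr]
    refine (isIrreducible_irreducibleComponent.isConnected.isPreconnected.image τ.left
      τ.left.continuous.continuousOn).subset_connectedComponent ⟨pt (r Z), hrZ, ?_⟩ ⟨pt g, mem_irreducibleComponent, rfl⟩
    show pt ((r Z) ≫ τ) = _
    rw [hτ, inv_mul_cancel, Hom.one_def, toUnit_unit, Category.id_comp]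
    rfl
  obtain ⟨z, hz⟩ := exists_pt_of_mem c hmem
  have hrΦ : r Z ∈ Φ :=
    Subgroup.mem_sup_right (Subgroup.subset_closure (Finset.mem_coe.2 (Finset.mem_image_of_mem r (Finset.mem_univ Z))))
  have hsub : (c ≫ σ).left '' (pt '' (Φ₀ : Set _)) ⊆ pt '' (Φ : Set _) := by
    rintro _ ⟨_, ⟨y, hy, rfl⟩, rfl⟩
    refine ⟨r Z * (y ≫ c), Φ.mul_mem hrΦ (Subgroup.mem_sup_left ⟨y, hy, rfl⟩), ?_⟩
    show pt (r Z * (y ≫ c)) = pt (y ≫ c ≫ σ)
    rw [← Category.assoc, hσ]
  have h3 : (c ≫ σ).left (pt z) ∈ closure (pt '' (Φ : Set _)) :=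
    closure_mono hsub (image_closure_subset_closure_image (c ≫ σ).left.continuous ⟨pt z, hd₀ _, rfl⟩)
  have h4 : z ≫ c ≫ σ = g := by rw [← Category.assoc, hz, hσ, hτ, mul_inv_cancel_left]
  exact (congrArg pt h4) ▸ h3

end Groth.Agent.FgDense
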